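import Cfsg.Agent.ChevDefect57.Unipotent
import Cfsg.Agent.Lib.BlocksCore.Green
import Cfsg.Agent.Lib.BlocksCore.BlockCount
import Cfsg.Agent.Lib.BlocksCore.DefectZero
import Cfsg.Agent.Lib.BlocksDefect.Pairing
import Cfsg.Agent.Lib.Steinberg.Chev

/-!
# The blocks in defining characteristic of the groups G₂(q), F₄(q), E₈(q)

Every defect group is trivial or a Sylow group (Green's theorem and the root system); there is one
block of full defect and the Steinberg block.
-/

set_option autoImplicit false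

namespace Cfsg.Agent.ChevDefect57

open Cfsg.Lie Cfsg.Agent.ChevCore Cfsg.Agent.BlocksCore Cfsg.Agent.BlocksDefect

variable {D : ChevalleyDatum} {F : Type*} [Field F]

/-- The positive unipotent subgroup inside the Chevalley group. -/
abbrev posU (D : ChevalleyDatum) (F : Type*) [Field F] : Subgroup ↥(D.group F) :=
  (D.posUnipotent F).subgroupOf (D.group F)

theorem map_subtype_conj {G : Type*} [Group G] {H : Subgroup G} (Q : Subgroup ↥H) (g : ↥H) :
    (Q.map (MulAut.conj g).toMonoidHom).map H.subtype =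
      (Q.map H.subtype).map (MulAut.conj (g : G)).toMonoidHom := by
  rw [Subgroup.map_map, Subgroup.map_map]
  rfl

theorem seven_of_three (h : D ∈ [chevG2, chevF4, chevE8]) :
    D ∈ [chevG2, chevB2, chevD4, chevF4, chevE6, chevE7, chevE8] := by
  simp only [List.mem_cons, List.not_mem_nil, or_false] at h ⊢
  tauto

section structure_results

variable (h3 : D ∈ [chevG2, chevF4, chevE8])
include h3

theorem map_posU : (posU D F).map (D.group F).subtype = D.posUnipotent F :=
  Subgroup.map_subgroupOf_eq_of_le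
    (uGood_of_mem (seven_of_three h3)).toCommGood.toGood.posUnipotent_le_group

/-- The shape of an intersection `U ∩ x U x⁻¹` centralized by `x`. -/
theorem exists_posJ {Q : Subgroup ↥(D.group F)} {x : ↥(D.group F)}
    (hinf : posU D F ⊓ (posU D F).map (MulAut.conj x).toMonoidHom = Q)
    (hx : x ∈ Subgroup.centralizer (Q : Set ↥(D.group F))) :
    ∃ b ∈ D.borelSubgroup F, ∃ K : Set ℕ,
      Q.map (D.group F).subtype = (XS D F (posJ D K)).map (MulAut.conj b).toMonoidHom := by
  have h7 := seven_of_three h3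
  refine exists_keepJ (uGood_of_mem h7) h7 x.2 (Q := Q.map (D.group F).subtype) ?_ ?_
  · rw [← hinf, Subgroup.map_inf _ _ _ Subtype.val_injective, map_subtype_conj, map_posU h3]
  · rw [Subgroup.mem_centralizer_iff]
    rintro _ ⟨y, hy, rfl⟩
    exact congrArg Subtype.val (Subgroup.mem_centralizer_iff.1 hx y hy)

/-- An element of order prime to `p` centralizing `U` is trivial. -/
theorem eq_one_of_centralizer (p : ℕ) [hp : Fact p.Prime] (hpU : IsPGroup p (posU D F))
    {g : ↥(D.group F)} (hreg : ¬ p ∣ orderOf g)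
    (hg : g ∈ Subgroup.centralizer (posU D F : Set ↥(D.group F))) : g = 1 := by
  have h7 := seven_of_three h3
  have hU := uGood_of_mem h7
  have hG := hU.toCommGood.toGood
  have hs := chkSupp_of_mem h7
  have hrad : D.unipotentRadical F (∅ : Set ℕ) = D.posUnipotent F := by
    rw [hG.unipotentRadical_eq hs, hG.posUnipotent_eq]
    refine congrArg Subgroup.closure (Set.ext fun y => ?_)
    constructor
    · rintro ⟨r, t, hr, hrr, rfl⟩
      exact ⟨r, t, hr, hrr.1, rfl⟩
    · rintro ⟨r, t, hr, hrr, rfl⟩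
      exact ⟨r, t, hr, ⟨hrr, not_mem_subJ_empty hG hr⟩, rfl⟩
  have hgn : (g : GL D.Idx F) ∈
      Subgroup.normalizer (D.unipotentRadical F (∅ : Set ℕ) : Set (GL D.Idx F)) := by
    rw [hrad]
    refine Subgroup.centralizer_le_normalizer _ ?_
    rw [Subgroup.mem_centralizer_iff]
    intro y hy
    exact congrArg Subtype.val (Subgroup.mem_centralizer_iff.1 hg
      (⟨y, hG.posUnipotent_le_group hy⟩ : ↥(D.group F)) (Subgroup.mem_subgroupOf.2 hy))
  have hgb : (g : GL D.Idx F) ∈ D.borelSubgroup F := by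
    have h1 : (g : GL D.Idx F) ∈ D.parabolicSubgroup F (∅ : Set ℕ) := by
      rw [← normalizer_radical_mem h7]
      exact ⟨hgn, g.2⟩
    rw [hG.parabolic_gen] at h1
    refine (sup_le le_rfl ((Subgroup.closure_le _).2 ?_)) h1
    rintro y ⟨i, hi, -⟩
    exact absurd hi (Set.notMem_empty i)
  obtain ⟨v, hv, h, hh, hgh⟩ := hG.mem_borel hgb
  have hpos : ∀ r < D.nroots, 1 ≤ ht D r → h * xg D F r 1 * h⁻¹ = xg D F r 1 := by
    intro r hr hp'
    obtain ⟨a, ha, hah⟩ := hG.conj_xg_of_mem_H hh hr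
    have hxU : xg D F r 1 ∈ D.posUnipotent F := by
      rw [hG.posUnipotent_eq]; exact xg_mem_XS hr hp' 1
    have hcom : (g : GL D.Idx F) * xg D F r 1 = xg D F r 1 * g :=
      (congrArg Subtype.val (Subgroup.mem_centralizer_iff.1 hg
        (⟨_, hG.posUnipotent_le_group hxU⟩ : ↥(D.group F)) (Subgroup.mem_subgroupOf.2 hxU))).symm
    have hcg : v * xg D F r a * v⁻¹ = xg D F r 1 := by
      have h2 : h * xg D F r 1 * h⁻¹ = xg D F r a := by rw [hah, mul_one]
      rw [← h2, show v * (h * xg D F r 1 * h⁻¹) * v⁻¹ = v * h * xg D F r 1 * (v * h)⁻¹ by group,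
        hgh, hcom, mul_inv_cancel_right]
    have hc := hU.conj_congr hp' (inv_mem (hG.posUnipotent_eq (F := F) ▸ hv)) hr le_rfl a
    rw [inv_inv, hcg] at hc
    have := (root_eq_of_congr hU hr hr hp' hp' ha hc).2
    rw [hah, mul_one, this]
  have h1 : h = 1 := by
    refine hG.H_faithful hh fun s hs' => ?_
    by_cases hps : 1 ≤ ht D s
    · exact hpos s hs' hps
    have hns : 1 ≤ ht D (D.neg s) := by
      have := hG.ht_ne_zero hs'
      rw [hG.ht_neg hs']; omega
    obtain ⟨c, rfl⟩ : h ∈ (tau D F).range := hG.diagonalSubgroup_eq_range (F := F) ▸ hh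
    have hn := hpos _ (hG.neg_lt hs') hns
    rw [hG.tau_conj_x c (hG.neg_lt hs')] at hn
    rw [hG.tau_conj_x c hs']
    have hw : (tauW D F c (Sum.inr ⟨D.neg s, hG.neg_lt hs'⟩)) =
        (tauW D F c (Sum.inr ⟨s, hs'⟩))⁻¹ := by
      simp only [tauW, Sum.elim_inr]
      rw [← Finset.prod_inv_distrib]
      exact Finset.prod_congr rfl fun i _ => by rw [hG.cartan_neg hs' i.2, zpow_neg]
    have hn' := hG.xg_injective (hG.neg_lt hs') hn
    rw [mul_one, hw, Units.val_inv_eq_inv_val, inv_eq_one] at hn'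
    rw [hn', one_mul]
  rw [h1, mul_one] at hgh
  have hgU : g ∈ posU D F := Subgroup.mem_subgroupOf.2 (hgh ▸ hv)
  obtain ⟨k, hk⟩ := hpU ⟨g, hgU⟩
  have hk' : g ^ p ^ k = 1 := congrArg Subtype.val hk
  obtain ⟨i, -, hi⟩ := (Nat.dvd_prime_pow hp.out).1 (orderOf_dvd_of_pow_eq_one hk')
  rcases Nat.eq_zero_or_pos i with rfl | hi0
  · exact orderOf_eq_one_iff.1 (by simpa using hi)
  · exact absurd (hi ▸ dvd_pow_self p hi0.ne') hreg

variable [Fintype F]

/-- A defect group inside `U` is trivial or equal to `U`. -/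
theorem defectGroup_bot_or_top {p : ℕ} [Fact p.Prime] {M : Ideal Cfsg.AlgInt}
    (hM : Cfsg.IsPModular p M) (hpU : IsPGroup p (posU D F))
    {B : Set (Cfsg.IrrCharacter ↥(D.group F))} (hB : Cfsg.IsPBlock M B)
    {Q : Subgroup ↥(D.group F)} (hQ : Cfsg.IsDefectGroup p M B Q) (hle : Q ≤ posU D F) :
    Q = ⊥ ∨ Q = posU D F := by
  classical
  have h7 := seven_of_three h3
  have hU := uGood_of_mem h7
  have hG := hU.toCommGood.toGood
  have hs := chkSupp_of_mem h7
  letI : Fintype ↥(D.group F) := Fintype.ofFinite _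
  have step : ∀ {Q' : Subgroup ↥(D.group F)}, Cfsg.IsDefectGroup p M B Q' → Q' ≤ posU D F →
      ∃ b ∈ D.borelSubgroup F, ∃ K : Set ℕ,
        Q'.map (D.group F).subtype = (XS D F (posJ D K)).map (MulAut.conj b).toMonoidHom := by
    intro Q' hQ' hle'
    obtain ⟨x, -, hxc, hinf⟩ := exists_inf_map_conj_eq_defectGroup hM hB hQ' hpU hle'
    exact exists_posJ h3 hinf hxc.mem_centralizer
  obtain ⟨b, hb, K, hK⟩ := step hQ hle
  by_cases hall : ∀ k < D.rank, k ∈ K
  · right
    refine Subgroup.map_injective (D.group F).subtype_injective ?_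
    rw [hK, posJ_univ_eq hU hall, map_conj_of_mem_normalizer (borel_le_normalizer_U hU hb),
      map_posU h3]
  by_cases hnone : ∀ k < D.rank, k ∉ K
  · left
    refine (Subgroup.map_eq_bot_iff_of_injective Q (D.group F).subtype_injective).1 ?_
    have hbot : XS D F (posJ D K) = ⊥ := le_bot_iff.1 (le_of_le_of_eq
      (XS_mono fun r hr => show r ∈ posJ D (∅ : Set ℕ) from
        ⟨hr.1, fun i hi _ => hr.2 i hi (hnone i hi)⟩)
      (posJ_empty_bot hU))
    rw [hK, hbot, Subgroup.map_bot]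
  exfalso
  push Not at hall hnone
  obtain ⟨a, ha, haK⟩ := hnone
  obtain ⟨c, hc, hcK⟩ := hall
  obtain ⟨j, hj, k, hk, hjK, hkK, hjk⟩ := exists_boundary (chkConn_of_mem h3) ha hc haK hcK
  have hjk' : j ≠ k := fun e => hjK (e ▸ hkK)
  set n := ng D F (D.simple j) 1 with hn
  have hnG : n ∈ D.group F := hG.ng_mem_group _ _
  have hbG : b ∈ D.group F := hG.borelSubgroup_le_group hb
  set y : ↥(D.group F) := ⟨n * b⁻¹, mul_mem hnG (inv_mem hbG)⟩ with hy
  set Q1 := Q.map (MulAut.conj y).toMonoidHom with hQ1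
  have hQ1map : Q1.map (D.group F).subtype =
      (XS D F (posJ D K)).map (MulAut.conj n).toMonoidHom := by
    rw [hQ1, map_subtype_conj, hK, map_conj_map_conj, hy, inv_mul_cancel_right]
  have hcj : ∀ r < D.nroots, r ∈ posJ D K → ∀ u : F,
      n * xg D F r u * n⁻¹ = xg D F (D.reflectRoot j r) ((eta D j r : F) * u) :=
    fun r hr _ u => hG.ng_conj_x hj hr u
  have hQ1le : Q1 ≤ posU D F := by
    intro z hz
    have hz' : (z : GL D.Idx F) ∈ Q1.map (D.group F).subtype := ⟨z, hz, rfl⟩
    rw [hQ1map] at hz'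
    refine Subgroup.mem_subgroupOf.2 ?_
    have hle1 : XS D F (posJ D K) ≤ (D.posUnipotent F).comap (MulAut.conj n).toMonoidHom := by
      refine XS_le fun r u hr hrJ => ?_
      rw [Subgroup.mem_comap]
      show n * xg D F r u * n⁻¹ ∈ D.posUnipotent F
      rw [hcj r hr hrJ u, hG.posUnipotent_eq]
      exact xg_mem_XS (hG.refl_lt hj hr) (refl_pos_of_posJ hG hj hjK hr hrJ) _
    exact Subgroup.map_le_iff_le_comap.2 hle1 hz'
  obtain ⟨b₁, hb₁, K₁, hK₁⟩ := step (isDefectGroup_map_conj hM hB hQ y) hQ1le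
  rw [← hQ1, hQ1map] at hK₁
  have hsub : ∀ i < D.rank, i ∈ K → D.reflectRoot j (D.simple i) ∈ subJ D K₁ := by
    intro i hi hiK
    have hr := hG.simple_lt hi
    have hr' := hG.refl_lt hj hr
    have hrJ := simple_mem_posJ hG hi hiK
    have hp' := refl_pos_of_posJ hG hj hjK hr hrJ
    have h1 : xg D F (D.reflectRoot j (D.simple i)) 1 ∈
        (XS D F (posJ D K₁)).map (MulAut.conj b₁).toMonoidHom := by
      rw [← hK₁]
      refine ⟨xg D F (D.simple i) (eta D j (D.simple i) : F), xg_mem_XS hr hrJ _, ?_⟩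
      show n * _ * n⁻¹ = _
      rw [hcj _ hr hrJ, ← Int.cast_mul, eta_mul_self, Int.cast_one]
    rw [map_conj_mem_iff] at h1
    exact mem_subJ_of_conj hU hs (inv_mem hb₁) hr' hp' (by rwa [inv_inv])
  have hmono : ∀ i < D.rank, i ∈ K → i ∈ K₁ := by
    intro i hi hiK
    by_contra hi1
    have hij : i ≠ j := fun e => hjK (e ▸ hiK)
    have := hsub i hi hiK i hi hi1
    rw [coef_refl_of_ne hG hj (hG.simple_lt hi) hi hij, hG.coef_simple hi hi, if_pos rfl] at this
    exact one_ne_zero this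
  have hjK₁ : j ∈ K₁ := by
    by_contra hj1
    exact (refl_boundary hG hj hk hjk' hjk).2.1 (hsub k hk hkK j hj hj1)
  have hle2 : XS D F (posJ D K) ≤ XS D F (posJ D K₁) := XS_mono fun r hr =>
    ⟨hr.1, fun i hi hi1 => hr.2 i hi fun hiK => hi1 (hmono i hi hiK)⟩
  have hcard : Nat.card (XS D F (posJ D K₁)) ≤ Nat.card (XS D F (posJ D K)) := by
    rw [← natCard_map_conj (XS D F (posJ D K)) n, hK₁, natCard_map_conj]
  have heq := Subgroup.eq_of_le_of_card_ge hle2 hcard
  have hj1 : xg D F (D.simple j) 1 ∈ XS D F (posJ D K) := by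
    rw [heq]
    exact xg_mem_XS (hG.simple_lt hj) (simple_mem_posJ hG hj hjK₁) 1
  have := mem_subJ_of_conj hU hs (one_mem (D.borelSubgroup F)) (hG.simple_lt hj)
    (by rw [hG.ht_simple hj]) (by simpa using hj1) j hj hjK
  rw [hG.coef_simple hj hj, if_pos rfl] at this
  exact one_ne_zero this

/-- The number of blocks in defining characteristic is two. -/
theorem natCard_blocks {p : ℕ} [Fact p.Prime] [CharP F p] {M : Ideal Cfsg.AlgInt}
    (hM : Cfsg.IsPModular p M) :
    Nat.card {B : Set (Cfsg.IrrCharacter ↥(D.group F)) // Cfsg.IsPBlock M B} = 2 := by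
  classical
  have h7 := seven_of_three h3
  obtain ⟨P, U, -, -, hU, hcard, hsplit, htwo, -⟩ := Steinberg.exists_chev (F := F) h7
  letI : Fintype ↥(D.group F) := Fintype.ofFinite _
  obtain ⟨h2, hrel⟩ := htwo p
  have hsp := hsplit p
  haveI : M.IsPrime := isPrime hM
  have hU' : U = posU D F := hU
  have hpU : IsPGroup p (posU D F) := by rw [← hU']; exact hsp.pgroup
  obtain ⟨S, hS⟩ := hsp.exists_sylow
  set St : Cfsg.IrrCharacter ↥(D.group F) :=
    ⟨Steinberg.stChar P, Steinberg.isIrrCharacter_stChar P⟩ with hSt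
  have hUne : U ≠ ⊥ := by
    intro e
    rw [e, Subgroup.card_bot] at hcard
    have hn : D.nroots / 2 ≠ 0 := by
      simp only [List.mem_cons, List.not_mem_nil, or_false] at h3
      rcases h3 with rfl | rfl | rfl <;> decide
    exact (Nat.one_lt_pow hn Fintype.one_lt_card).ne hcard
  have hdeg : Cfsg.charDegree (St : ↥(D.group F) → ℂ) = Nat.card U := by
    show ⌊(Steinberg.stChar P 1).re⌋₊ = _
    rw [hsp.stChar_one]
    simp
  have hblk : blockOf M (St : ↥(D.group F) → ℂ) = {St} :=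
    (blockOf_eq_singleton_iff hM St).2 (by rw [hdeg]; exact hsp.not_dvd_card_div)
  have hfull : Nat.card {B : Set (Cfsg.IrrCharacter ↥(D.group F)) //
      Cfsg.IsPBlock M B ∧ Cfsg.IsDefectGroup p M B (S : Subgroup ↥(D.group F))} = 1 := by
    rw [natCard_blocks_full_defect hM S, Nat.card_eq_one_iff_exists]
    have hone : ∀ n : ↥(Subgroup.normalizer ((S : Subgroup ↥(D.group F)) : Set ↥(D.group F))),
        ¬ p ∣ orderOf n →
        (n : ↥(D.group F)) ∈ Subgroup.centralizer ((S : Subgroup ↥(D.group F)) : Set _) →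
          n = 1 := by
      intro n hreg hc
      refine Subtype.ext (eq_one_of_centralizer h3 p hpU ?_ ?_)
      · rwa [Subgroup.orderOf_coe]
      · simpa only [hS.trans hU'] using hc
    refine ⟨⟨ConjClasses.mk 1, fun n hn => ?_⟩, fun ⟨C, hC⟩ => Subtype.ext ?_⟩
    · obtain rfl : n = 1 := isConj_one_left.1 (ConjClasses.mk_eq_mk_iff_isConj.1 hn)
      exact ⟨by simpa using (Fact.out : p.Prime).ne_one, one_mem _⟩
    · obtain ⟨n, rfl⟩ := ConjClasses.mk_surjective C
      obtain ⟨h1, h2'⟩ := hC n rfl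
      exact congrArg ConjClasses.mk (hone n h1 h2')
  obtain ⟨⟨B₀, hB₀, hB₀S⟩, huniq⟩ := Nat.card_eq_one_iff_exists.1 hfull
  have hne : B₀ ≠ {St} := by
    intro e
    have h1 := defectGroup_natCard hM hB₀ hB₀S
    have h0 : blockDefect p B₀ = 0 := by
      rw [e, blockDefect, Set.image_singleton, csInf_singleton, hdeg, hsp.card_U_eq,
        (Fact.out : p.Prime).factorization_pow, Finsupp.single_eq_same, Nat.sub_self]
    rw [h0, pow_zero, hS] at h1
    exact hUne (Subgroup.card_eq_one.1 h1)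
  have hall : ∀ B, Cfsg.IsPBlock M B → B = B₀ ∨ B = {St} := by
    intro B hB
    obtain ⟨Q, hQ⟩ := exists_isDefectGroup hM hB
    obtain ⟨R, hR⟩ := (isPGroup_of_isDefectGroup hQ).exists_le_sylow
    obtain ⟨g, hg⟩ := MulAction.exists_smul_eq ↥(D.group F) R S
    have hgle : Q.map (MulAut.conj g).toMonoidHom ≤ posU D F := by
      refine (Subgroup.map_mono hR).trans (le_of_eq ?_)
      rw [← hU', ← hS, ← hg]
      rfl
    have hQ' := isDefectGroup_map_conj hM hB hQ g
    rcases defectGroup_bot_or_top h3 hM hpU hB hQ' hgle with h | h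
    · right
      have h1 := defectGroup_natCard hM hB hQ'
      rw [h, Subgroup.card_bot] at h1
      have h0 : blockDefect p B = 0 := by
        by_contra h0
        exact (Nat.one_lt_pow h0 (Fact.out : p.Prime).one_lt).ne h1
      obtain ⟨χ, hχ⟩ := isPBlock_nonempty hB
      obtain ⟨ψ, hψ, hψe⟩ := Nat.sInf_mem (Set.Nonempty.image
        (fun χ : Cfsg.IrrCharacter ↥(D.group F) =>
          (Cfsg.charDegree (χ : ↥(D.group F) → ℂ)).factorization p) ⟨χ, hχ⟩)
      rw [blockDefect, ← hψe] at h0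
      replace h0 : (Nat.card ↥(D.group F)).factorization p -
        (Cfsg.charDegree (ψ : ↥(D.group F) → ℂ)).factorization p = 0 := h0
      have hdvd : p ^ (Nat.card ↥(D.group F)).factorization p ∣
          Cfsg.charDegree (ψ : ↥(D.group F) → ℂ) :=
        (pow_dvd_pow p (by omega)).trans (Nat.ordProj_dvd _ p)
      have hψSt : ψ = St := Subtype.ext (Steinberg.eq_stChar h2 hrel ψ hdvd)
      rw [isPBlock_eq_blockOf hB hψ, hψSt, hblk]
    · left
      rw [h, ← hU', ← hS] at hQ'
      exact congrArg Subtype.val (huniq ⟨B, hB, hQ'⟩)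
  have hset : {B : Set (Cfsg.IrrCharacter ↥(D.group F)) | Cfsg.IsPBlock M B} = {B₀, {St}} := by
    ext B
    refine ⟨hall B, ?_⟩
    rintro (rfl | rfl)
    · exact hB₀
    · exact hblk ▸ isPBlock_blockOf St
  rw [← Set.coe_ofPred, hset, Nat.card_coe_set_eq, Set.ncard_pair hne]

end structure_results

end Cfsg.Agent.ChevDefect57
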