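import Cfsg.Agent.Lib.ChevCore.Parabolic
import Cfsg.Agent.Lib.ChevCore.SepAll

/-!
# Weyl words fixing the positive roots that they keep positive

If a word `v` fixes every positive root that it keeps positive, those roots are the positive roots
supported on the set `keepJ v` of fundamental roots kept positive.
-/

set_option autoImplicit false

namespace Cfsg.Agent.ChevDefect57

open Cfsg.Lie Cfsg.Agent.ChevCore

variable {D : ChevalleyDatum}

/-- The fundamental roots kept positive by the word `v`. -/
def keepJ (D : ChevalleyDatum) (v : List ℕ) : Set ℕ :=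
  {k | k < D.rank ∧ 0 < ht D (actW D v (D.simple k))}

/-- The positive roots supported on `K`. -/
def posJ (D : ChevalleyDatum) (K : Set ℕ) : Set ℕ := {r | 1 ≤ ht D r ∧ r ∈ subJ D K}

/-- The positive roots kept positive by the word `v`. -/
def keepPos (D : ChevalleyDatum) (v : List ℕ) : Set ℕ := {r | 1 ≤ ht D r ∧ 1 ≤ ht D (actW D v r)}

theorem posJ_mono {K K' : Set ℕ} (h : K ⊆ K') : posJ D K ⊆ posJ D K' := fun _ hr =>
  ⟨hr.1, fun i hi hiK => hr.2 i hi fun hiK' => hiK (h hiK')⟩

variable (hD : Good D)
include hD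

/-- The action of a word is linear in the coefficient vectors. -/
theorem coef_actW {w : List ℕ} (hw : ∀ i ∈ w, i < D.rank) {r : ℕ} (hr : r < D.nroots) {j : ℕ}
    (hj : j < D.rank) :
    coef D (actW D w r) j =
      ∑ k ∈ Finset.range D.rank, coef D r k * coef D (actW D w (D.simple k)) j := by
  induction w generalizing j with
  | nil =>
    rw [Finset.sum_eq_single j]
    · rw [actW_nil, actW_nil, hD.coef_simple hj hj, if_pos rfl, mul_one]
    · intro k hk hne
      rw [actW_nil, hD.coef_simple (Finset.mem_range.1 hk) hj, if_neg fun e => hne e.symm, mul_zero]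
    · intro h
      exact absurd (Finset.mem_range.2 hj) h
  | cons i w ih =>
    have hi : i < D.rank := hw i (by simp)
    have hw' : ∀ a ∈ w, a < D.rank := fun a ha => hw a (by simp [ha])
    rw [actW_cons, hD.coef_refl hi (hD.actW_lt hw' hr) hj, ih hw' hj]
    have hrw : ∀ k ∈ Finset.range D.rank,
        coef D r k * coef D (actW D (i :: w) (D.simple k)) j =
          coef D r k * coef D (actW D w (D.simple k)) j -
            (if j = i then coef D r k * D.cartan i (actW D w (D.simple k)) else 0) := by
      intro k hk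
      have hlt : actW D w (D.simple k) < D.nroots :=
        hD.actW_lt hw' (hD.simple_lt (Finset.mem_range.1 hk))
      rw [actW_cons, hD.coef_refl hi hlt hj]
      split_ifs <;> ring
    rw [Finset.sum_congr rfl hrw, Finset.sum_sub_distrib]
    congr 1
    by_cases hji : j = i
    · simp only [if_pos hji]
      rw [hD.cartan_eq (hD.actW_lt hw' hr) hi]
      have e : ∀ k ∈ Finset.range D.rank, coef D r k * D.cartan i (actW D w (D.simple k)) =
          ∑ l ∈ Finset.range D.rank,
            coef D r k * coef D (actW D w (D.simple k)) l * D.cartan i (D.simple l) := by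
        intro k hk
        rw [hD.cartan_eq (hD.actW_lt hw' (hD.simple_lt (Finset.mem_range.1 hk))) hi, Finset.mul_sum]
        exact Finset.sum_congr rfl fun l _ => by ring
      rw [Finset.sum_congr rfl e, Finset.sum_comm]
      refine Finset.sum_congr rfl fun l hl => ?_
      rw [ih hw' (Finset.mem_range.1 hl), Finset.sum_mul]
    · simp [if_neg hji]

omit hD in
theorem mem_posJ_univ {K : Set ℕ} (hK : ∀ k < D.rank, k ∈ K) {r : ℕ} (hp : 1 ≤ ht D r) :
    r ∈ posJ D K := ⟨hp, fun i hi hiK => absurd (hK i hi) hiK⟩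

theorem simple_mem_posJ {K : Set ℕ} {j : ℕ} (hj : j < D.rank) (h : j ∈ K) :
    D.simple j ∈ posJ D K := ⟨by rw [hD.ht_simple hj], hD.simple_mem_subJ hj h⟩

theorem not_mem_subJ_empty {r : ℕ} (hr : r < D.nroots) : r ∉ subJ D (∅ : Set ℕ) := fun h =>
  hD.ht_ne_zero hr (by
    rw [hD.ht_eq hr]
    exact Finset.sum_eq_zero fun i hi => h i (Finset.mem_range.1 hi) (Set.notMem_empty i))

omit hD in
/-- The root `r` is fixed, given that the kept fundamental roots are. -/
theorem actW_eq_of_mem_subJ (hU : UGood D) {v : List ℕ} (hv : ∀ i ∈ v, i < D.rank)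
    (hsimp : ∀ k ∈ keepJ D v, actW D v (D.simple k) = D.simple k) {r : ℕ} (hr : r < D.nroots)
    (h : r ∈ subJ D (keepJ D v)) : actW D v r = r := by
  have hG := hU.toCommGood.toGood
  refine hU.root_ext (hG.actW_lt hv hr) hr fun j hj => ?_
  rw [coef_actW hG hv hr hj, Finset.sum_eq_single j]
  · by_cases hK : j ∈ keepJ D v
    · rw [hsimp j hK, hG.coef_simple hj hj, if_pos rfl, mul_one]
    · rw [h j hj hK, zero_mul]
  · intro k hk hne
    have hk' := Finset.mem_range.1 hk
    by_cases hK : k ∈ keepJ D v
    · rw [hsimp k hK, hG.coef_simple hk' hj, if_neg fun e => hne e.symm, mul_zero]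
    · rw [h k hk' hK, zero_mul]
  · intro h'
    exact absurd (Finset.mem_range.2 hj) h'

omit hD in
/-- A word fixing every positive root that it keeps positive keeps positive exactly the positive
roots supported on `keepJ v`. -/
theorem keepPos_eq (hU : UGood D) {v : List ℕ} (hv : ∀ i ∈ v, i < D.rank)
    (hfix : ∀ r < D.nroots, r ∈ keepPos D v → actW D v r = r) {r : ℕ} (hr : r < D.nroots) :
    r ∈ keepPos D v ↔ r ∈ posJ D (keepJ D v) := by
  have hG := hU.toCommGood.toGood
  have hsimp : ∀ k ∈ keepJ D v, actW D v (D.simple k) = D.simple k := fun k hk =>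
    hfix _ (hG.simple_lt hk.1) ⟨by rw [hG.ht_simple hk.1], hk.2⟩
  constructor
  · intro hrk
    refine ⟨hrk.1, fun j hj hjK => ?_⟩
    have hfx := hfix r hr hrk
    have hge := hG.coef_nonneg hr (by have := hrk.1; omega) hj
    refine le_antisymm ?_ hge
    have he := coef_actW hG hv hr hj
    rw [hfx] at he
    rw [he]
    refine Finset.sum_nonpos fun k hk => ?_
    have hk' := Finset.mem_range.1 hk
    have hklt := hG.actW_lt hv (hG.simple_lt hk')
    by_cases hK : k ∈ keepJ D v
    · rw [hsimp k hK, hG.coef_simple hk' hj, if_neg fun e : j = k => hjK (e ▸ hK), mul_zero]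
    · have hneg : ht D (actW D v (D.simple k)) < 0 := by
        have h1 := hG.ht_ne_zero hklt
        by_contra hlt
        exact hK ⟨hk', by omega⟩
      refine mul_nonpos_of_nonneg_of_nonpos (hG.coef_nonneg hr (by have := hrk.1; omega) hk') ?_
      have h2 := hG.coef_nonneg (hG.neg_lt hklt) (by rw [hG.ht_neg hklt]; omega) hj
      rw [hG.coef_neg hklt hj] at h2
      omega
  · intro hJ
    exact ⟨hJ.1, by rw [actW_eq_of_mem_subJ hU hv hsimp hr hJ.2]; exact hJ.1⟩

omit hD in
/-- The Dynkin diagram is connected. -/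
def chkConn (D : ChevalleyDatum) : Prop :=
  ∃ d : List ℕ, ∀ i < D.rank, i = 0 ∨
    ∃ j < D.rank, d.getD j 0 < d.getD i 0 ∧ D.cartan i (D.simple j) ≠ 0 ∧
      D.cartan j (D.simple i) ≠ 0

omit hD in
theorem chkConn_of_mem (h : D ∈ [chevG2, chevF4, chevE8]) : chkConn D := by
  simp only [List.mem_cons, List.not_mem_nil, or_false] at h
  unfold chkConn
  rcases h with rfl | rfl | rfl
  · exact ⟨[0, 1], by decide +kernel⟩
  · exact ⟨[0, 1, 2, 3], by decide +kernel⟩
  · exact ⟨[0, 3, 1, 2, 3, 4, 5, 6], by decide +kernel⟩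

omit hD in
/-- An edge leaving a proper nonempty set of nodes. -/
theorem exists_boundary (hc : chkConn D) {K : Set ℕ} {a b : ℕ} (ha : a < D.rank) (hb : b < D.rank)
    (haK : a ∈ K) (hbK : b ∉ K) :
    ∃ j < D.rank, ∃ k < D.rank, j ∉ K ∧ k ∈ K ∧ D.cartan j (D.simple k) ≠ 0 := by
  by_contra hno
  push Not at hno
  obtain ⟨d, hd⟩ := hc
  have key : ∀ i, i < D.rank → (i ∈ K ↔ 0 ∈ K) := by
    intro i
    induction e : d.getD i 0 using Nat.strong_induction_on generalizing i with
    | _ n ih =>
      intro hi
      rcases hd i hi with rfl | ⟨j, hj, hlt, h1, h2⟩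
      · exact Iff.rfl
      · rw [← ih _ (e ▸ hlt) j rfl hj]
        constructor
        · intro hiK
          by_contra hjK
          exact h2 (hno j hj i hi hjK hiK)
        · intro hjK
          by_contra hiK
          exact h1 (hno i hi j hj hiK hjK)
  exact hbK ((key b hb).2 ((key a ha).1 haK))

/-- The reflection of an adjacent fundamental root. -/
theorem refl_boundary {j k : ℕ} (hj : j < D.rank) (hk : k < D.rank) (hjk : j ≠ k)
    (hc : D.cartan j (D.simple k) ≠ 0) :
    1 ≤ ht D (D.reflectRoot j (D.simple k)) ∧ coef D (D.reflectRoot j (D.simple k)) j ≠ 0 ∧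
      coef D (D.reflectRoot j (D.simple k)) k ≠ 0 := by
  have hkl := hD.simple_lt hk
  refine ⟨?_, ?_, ?_⟩
  · have := hD.refl_pos hj hkl (by rw [hD.ht_simple hk]; exact one_pos)
      (fun e => hjk (hD.simple_inj hk hj e).symm)
    omega
  · rw [hD.coef_refl hj hkl hj, hD.coef_simple hk hj, if_neg hjk, if_pos rfl]
    omega
  · rw [hD.coef_refl hj hkl hk, hD.coef_simple hk hk, if_pos rfl, if_neg (Ne.symm hjk)]
    norm_num

/-- A fundamental reflection outside `K` keeps the roots supported on `K` positive. -/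
theorem refl_pos_of_posJ {K : Set ℕ} {j r : ℕ} (hj : j < D.rank) (hjK : j ∉ K)
    (hr : r < D.nroots) (h : r ∈ posJ D K) : 1 ≤ ht D (D.reflectRoot j r) := by
  refine hD.refl_pos hj hr (by have := h.1; omega) ?_
  rintro rfl
  have := h.2 j hj hjK
  rw [hD.coef_simple hj hj, if_pos rfl] at this
  exact one_ne_zero this

/-- The image under a fundamental reflection keeps the coefficients away from it. -/
theorem coef_refl_of_ne {i j r : ℕ} (hj : j < D.rank) (hr : r < D.nroots) (hi : i < D.rank)
    (hne : i ≠ j) : coef D (D.reflectRoot j r) i = coef D r i := by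
  rw [hD.coef_refl hj hr hi, if_neg hne, sub_zero]

end Cfsg.Agent.ChevDefect57
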