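import Cfsg.Agent.ChevDefect57.Roots
import Cfsg.Agent.Lib.ChevCore.UStruct
import Cfsg.Agent.Lib.ChevCore.BorelMore

/-!
# Intersections of the positive unipotent group with its monomial conjugates
-/

set_option autoImplicit false

namespace Cfsg.Agent.ChevDefect57

open Cfsg.Lie Cfsg.Agent.ChevCore

variable {D : ChevalleyDatum} {F : Type*} [Field F]

section ugood

variable (hU : UGood D)
include hU

/-- A root element is not congruent to another one modulo higher roots. -/
theorem root_eq_of_congr {r r' : ℕ} (hr : r < D.nroots) (hr' : r' < D.nroots)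
    (hp : 1 ≤ ht D r) (hp' : 1 ≤ ht D r') {a c : F} (ha : a ≠ 0)
    (h : xg D F r' c * (xg D F r a)⁻¹ ∈ XS D F (htGe D (ht D r + 1))) : r' = r ∧ c = a := by
  classical
  have hG := hU.toCommGood.toGood
  have hnd : D.posRoots.Nodup := Good.nodup_posRoots
  have hmem : ∀ s, s ∈ D.posRoots ↔ s < D.nroots ∧ 1 ≤ ht D s := fun s => hG.mem_posRoots
  have hzero : ∀ {s : ℕ} {x : F}, s < D.nroots → 1 ≤ ht D s →
      xg D F s x ∈ XS D F (htGe D (ht D s + 1)) → x = 0 := by
    intro s x hs hsp hx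
    have hsupp : SuppHt D F (ht D s) (Pi.single s x) := fun t ht' => by
      by_cases e : t = s
      · subst e; exact ⟨hs, rfl⟩
      · exact absurd (Pi.single_eq_of_ne (M := fun _ : ℕ => F) e x) ht'
    have := hU.layer_inj hsp hnd hmem hsupp
      (by rwa [hU.prodL_single hnd ((hmem s).2 ⟨hs, hsp⟩)])
    simpa using congrFun this s
  have hmono : ∀ {m m' : ℤ}, m ≤ m' → XS D F (htGe D m') ≤ XS D F (htGe D m) :=
    fun hmm => XS_mono fun t (ht' : _ ≤ ht D t) => (hmm.trans ht' : _ ≤ ht D t)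
  have hxr : xg D F r a ∈ XS D F (htGe D (ht D r)) := xg_mem_XS hr (show _ ≤ ht D r from le_rfl) a
  by_cases hne : r' = r
  · subst hne
    refine ⟨rfl, sub_eq_zero.1 (hzero hr hp ?_)⟩
    rw [sub_eq_add_neg, hG.xg_add, ← hG.xg_inv]
    exact h
  exfalso
  rcases lt_trichotomy (ht D r') (ht D r) with hlt | heq | hgt
  · have h1 : xg D F r' c ∈ XS D F (htGe D (ht D r' + 1)) := by
      have := mul_mem (hmono (show ht D r' + 1 ≤ ht D r + 1 by omega) h)
        (hmono (show ht D r' + 1 ≤ ht D r by omega) hxr)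
      simpa using this
    rw [hzero hr' hp' h1, hG.xg_zero, one_mul] at h
    exact ha (hzero hr hp (by simpa using inv_mem h))
  · set t : ℕ → F := Pi.single r' c with ht_def
    set d : ℕ → F := Pi.single r (-a) with hd_def
    have hd : SuppHt D F (ht D r) d := fun s hs => by
      by_cases e : s = r
      · subst e; exact ⟨hr, rfl⟩
      · exact absurd (Pi.single_eq_of_ne (M := fun _ : ℕ => F) e (-a)) hs
    have htd : SuppHt D F (ht D r) (t + d) := fun s hs => by
      by_cases e : s = r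
      · subst e; exact ⟨hr, rfl⟩
      by_cases e' : s = r'
      · subst e'; exact ⟨hr', heq⟩
      · exfalso
        rw [Pi.add_apply, hd_def, ht_def, Pi.single_eq_of_ne e, Pi.single_eq_of_ne e', add_zero] at hs
        exact hs rfl
    have hpr : prodL D F D.posRoots (t + d) ∈ XS D F (htGe D (ht D r + 1)) := by
      have h1 := hU.prodL_add hp (fun s hs => (hmem s).1 hs) t hd
      rw [ht_def, hd_def, hU.prodL_single hnd ((hmem r').2 ⟨hr', hp'⟩),
        hU.prodL_single hnd ((hmem r).2 ⟨hr, hp⟩), ← hG.xg_inv r a] at h1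
      simpa [mul_assoc, ← ht_def, ← hd_def] using mul_mem h (inv_mem h1)
    have h2 := congrFun (hU.layer_inj hp hnd hmem htd hpr) r
    rw [Pi.add_apply, ht_def, hd_def, Pi.single_eq_of_ne (Ne.symm hne), Pi.single_eq_same, zero_add,
      Pi.zero_apply, neg_eq_zero] at h2
    exact ha h2
  · have h1 : xg D F r' c ∈ XS D F (htGe D (ht D r + 1)) :=
      xg_mem_XS hr' (show ht D r + 1 ≤ ht D r' by omega) c
    have := mul_mem (inv_mem h1) h
    rw [← mul_assoc, inv_mul_cancel, one_mul] at this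
    exact ha (hzero hr hp (by simpa using inv_mem this))

/-- Conjugation of a root element by an element of the Borel subgroup. -/
theorem borel_conj_congr {b : GL D.Idx F} (hb : b ∈ D.borelSubgroup F) {r : ℕ} (hr : r < D.nroots)
    (hp : 1 ≤ ht D r) {u : F} (hu : u ≠ 0) :
    ∃ a : F, a ≠ 0 ∧
      b * xg D F r u * b⁻¹ * (xg D F r a)⁻¹ ∈ XS D F (htGe D (ht D r + 1)) := by
  have hG := hU.toCommGood.toGood
  obtain ⟨v, hv, h, hh, rfl⟩ := hG.mem_borel hb
  obtain ⟨a, ha, hah⟩ := hG.conj_xg_of_mem_H hh hr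
  refine ⟨a * u, mul_ne_zero ha hu, ?_⟩
  rw [hG.posUnipotent_eq] at hv
  have := hU.conj_congr hp (inv_mem hv) hr le_rfl (a * u)
  rw [inv_inv, ← hah u] at this
  rw [← hah u]
  convert this using 1
  group

theorem borel_le_normalizer_U :
    D.borelSubgroup F ≤ Subgroup.normalizer (D.posUnipotent F : Set (GL D.Idx F)) := by
  have hG := hU.toCommGood.toGood
  rw [ChevalleyDatum.borelSubgroup]
  refine sup_le Subgroup.le_normalizer ?_
  rw [hG.posUnipotent_eq]
  exact hG.H_le_normalizer_XS _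

omit hU in
theorem map_conj_of_mem_normalizer {G : Type*} [Group G] {H : Subgroup G} {g : G}
    (h : g ∈ Subgroup.normalizer (H : Set G)) : H.map (MulAut.conj g).toMonoidHom = H := by
  ext x
  rw [Subgroup.mem_map_equiv, MulAut.conj_symm_apply]
  exact ((Subgroup.mem_normalizer_iff''.1 h) x).symm

/-- The conjugate of a root element by the inverse of a monomial word. -/
theorem nw_inv_conj {w : List ℕ} (hw : ∀ i ∈ w, i < D.rank) {r : ℕ} (hr : r < D.nroots) {u : F}
    (hu : u ≠ 0) :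
    ∃ c : F, c ≠ 0 ∧ (nw D F w)⁻¹ * xg D F r u * nw D F w = xg D F (actW D w.reverse r) c := by
  have hG := hU.toCommGood.toGood
  have hwr : ∀ i ∈ w.reverse, i < D.rank := fun i hi => hw i (List.mem_reverse.1 hi)
  have hne : (etaWord D w (actW D w.reverse r) : F) ≠ 0 := by
    intro h0
    have := congrArg (Int.cast : ℤ → F) (Good.etaWord_sq (D := D) w (actW D w.reverse r))
    rw [Int.cast_mul, h0, zero_mul, Int.cast_one] at this
    exact zero_ne_one this
  refine ⟨(etaWord D w (actW D w.reverse r) : F)⁻¹ * u, mul_ne_zero (inv_ne_zero hne) hu, ?_⟩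
  have h1 := hG.nw_conj_x (F := F) hw (hG.actW_lt hwr hr)
    ((etaWord D w (actW D w.reverse r) : F)⁻¹ * u)
  rw [hG.actW_reverse hw hr, ← mul_assoc (etaWord D w (actW D w.reverse r) : F),
    mul_inv_cancel₀ hne, one_mul] at h1
  rw [← h1]
  group

/-- `U ∩ n U n⁻¹` for a monomial word `n`. -/
theorem inf_conj_eq {w : List ℕ} (hw : ∀ i ∈ w, i < D.rank) :
    D.posUnipotent F ⊓ (D.posUnipotent F).map (MulAut.conj (nw D F w)).toMonoidHom =
      XS D F (keepPos D w.reverse) := by
  classical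
  have hG := hU.toCommGood.toGood
  have hwr : ∀ i ∈ w.reverse, i < D.rank := fun i hi => hw i (List.mem_reverse.1 hi)
  have hcl : ∀ r, r < D.nroots → r ∈ keepPos D w.reverse → ∀ u : F,
      xg D F r u ∈ (D.posUnipotent F).map (MulAut.conj (nw D F w)).toMonoidHom := by
    intro r hr hrk u
    rw [Subgroup.mem_map_equiv, MulAut.conj_symm_apply]
    rcases eq_or_ne u 0 with rfl | hu
    · simp [hG.xg_zero]
    obtain ⟨c, -, hc⟩ := nw_inv_conj hU hw hr hu
    rw [hc, hG.posUnipotent_eq]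
    exact xg_mem_XS (hG.actW_lt hwr hr) hrk.2 c
  refine le_antisymm ?_ (le_inf ?_ (XS_le fun r u hr hrk => hcl r hr hrk u))
  swap
  · rw [hG.posUnipotent_eq]
    exact XS_mono fun r hr => hr.1
  intro g hg
  obtain ⟨hgU, hgC⟩ := hg
  set A := D.posRoots.filter fun r => decide (1 ≤ ht D (actW D w.reverse r)) with hA
  set B := D.posRoots.filter fun r => !decide (1 ≤ ht D (actW D w.reverse r)) with hB
  have hnd : (A ++ B).Nodup := by
    refine List.nodup_append.2 ⟨Good.nodup_posRoots.filter _, Good.nodup_posRoots.filter _, ?_⟩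
    intro r hrA s hsB e
    subst e
    rw [hA, List.mem_filter] at hrA
    rw [hB, List.mem_filter] at hsB
    rw [hrA.2] at hsB
    simp at hsB
  have hmem : ∀ r, r ∈ A ++ B ↔ r < D.nroots ∧ 1 ≤ ht D r := by
    intro r
    rw [← hG.mem_posRoots, List.mem_append, hA, hB, List.mem_filter, List.mem_filter]
    constructor
    · rintro (h | h) <;> exact h.1
    · intro h
      cases hd : decide (1 ≤ ht D (actW D w.reverse r))
      · exact Or.inr ⟨h, by simp⟩
      · exact Or.inl ⟨h, rfl⟩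
  obtain ⟨t, -, htg⟩ := hU.exists_prod hnd hmem (hG.posUnipotent_eq (F := F) ▸ hgU)
  have hsplit : prodL D F (A ++ B) t = prodL D F A t * prodL D F B t := by
    simp [prodL, List.prod_append]
  rw [hsplit] at htg
  have hAmem : prodL D F A t ∈ XS D F (keepPos D w.reverse) := by
    refine list_prod_mem fun y hy => ?_
    obtain ⟨r, hr, rfl⟩ := List.mem_map.1 hy
    rw [hA, List.mem_filter, hG.mem_posRoots, decide_eq_true_eq] at hr
    exact xg_mem_XS hr.1.1 (show r ∈ keepPos D w.reverse from ⟨hr.1.2, hr.2⟩) _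
  have hAC : prodL D F A t ∈ (D.posUnipotent F).map (MulAut.conj (nw D F w)).toMonoidHom :=
    XS_le (fun r u hr hrk => hcl r hr hrk u) hAmem
  have hBC : prodL D F B t ∈ (D.posUnipotent F).map (MulAut.conj (nw D F w)).toMonoidHom := by
    have := mul_mem (inv_mem hAC) (htg ▸ hgC)
    simpa using this
  rw [Subgroup.mem_map_equiv, MulAut.conj_symm_apply] at hBC
  have hneg : (nw D F w)⁻¹ * prodL D F B t * nw D F w ∈ D.negUnipotent F := by
    have e : (nw D F w)⁻¹ * prodL D F B t * nw D F w =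
        MulAut.conj (nw D F w)⁻¹ (prodL D F B t) := by simp [MulAut.conj_apply]
    rw [e, prodL, map_list_prod]
    refine list_prod_mem fun y hy => ?_
    rw [List.map_map] at hy
    obtain ⟨r, hr, rfl⟩ := List.mem_map.1 hy
    rw [hB, List.mem_filter, hG.mem_posRoots] at hr
    simp only [Function.comp_apply, MulAut.conj_apply, inv_inv]
    rcases eq_or_ne (t r) 0 with h0 | h0
    · simp [h0, hG.xg_zero]
    obtain ⟨c, -, hc⟩ := nw_inv_conj hU hw hr.1.1 h0
    rw [hc, hG.negUnipotent_eq]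
    refine xg_mem_XS (hG.actW_lt hwr hr.1.1) ?_ c
    show ht D (actW D w.reverse r) ≤ -1
    have h1 := hG.ht_ne_zero (hG.actW_lt hwr hr.1.1)
    have h2 : ¬ 1 ≤ ht D (actW D w.reverse r) := by simpa using hr.2
    omega
  have hone : (nw D F w)⁻¹ * prodL D F B t * nw D F w = 1 := by
    rw [← Subgroup.mem_bot, ← hG.borel_inf_neg (F := F)]
    exact ⟨le_sup_left (b := D.diagonalSubgroup F) hBC, hneg⟩
  have hB1 : prodL D F B t = 1 := by
    have := congrArg (fun x => nw D F w * x * (nw D F w)⁻¹) hone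
    simpa [mul_assoc] using this
  rw [hB1, mul_one] at htg
  exact htg ▸ hAmem

/-- If `x` centralizes `U ∩ x U x⁻¹`, that group is conjugate to the positive root group of a
standard Levi subgroup. -/
theorem exists_keepJ {x : GL D.Idx F}
    (hD : D ∈ [chevG2, chevB2, chevD4, chevF4, chevE6, chevE7, chevE8]) (hx : x ∈ D.group F)
    {Q : Subgroup (GL D.Idx F)}
    (hQ : D.posUnipotent F ⊓ (D.posUnipotent F).map (MulAut.conj x).toMonoidHom = Q)
    (hcent : x ∈ Subgroup.centralizer (Q : Set (GL D.Idx F))) :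
    ∃ b ∈ D.borelSubgroup F, ∃ K : Set ℕ,
      Q = (XS D F (posJ D K)).map (MulAut.conj b).toMonoidHom := by
  have hG := hU.toCommGood.toGood
  obtain ⟨b, hb, w, hw, -, b', hb', rfl⟩ := exists_bruhat_mem hD hx
  have hwr : ∀ i ∈ w.reverse, i < D.rank := fun i hi => hw i (List.mem_reverse.1 hi)
  have hbU := map_conj_of_mem_normalizer (borel_le_normalizer_U hU hb)
  have hb'U := map_conj_of_mem_normalizer (borel_le_normalizer_U hU hb')
  have hQ0 : Q = (XS D F (keepPos D w.reverse)).map (MulAut.conj b).toMonoidHom := by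
    rw [← inf_conj_eq hU hw, Subgroup.map_inf _ _ _ (MulAut.conj b).injective, hbU, ← hQ,
      map_mul, map_mul]
    congr 1
    conv_rhs => rw [← hb'U]
    rw [Subgroup.map_map, Subgroup.map_map]
    congr 1
  refine ⟨b, hb, keepJ D w.reverse, hQ0.trans ?_⟩
  have hfix : ∀ r < D.nroots, r ∈ keepPos D w.reverse → actW D w.reverse r = r := by
    intro r hr hrk
    have hmemQ : b * xg D F r 1 * b⁻¹ ∈ Q := by
      rw [hQ0]
      exact ⟨xg D F r 1, xg_mem_XS hr hrk 1, rfl⟩
    have hc := Subgroup.mem_centralizer_iff.1 hcent _ hmemQ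
    have he : b' * b * xg D F r 1 * (b' * b)⁻¹ = (nw D F w)⁻¹ * xg D F r 1 * nw D F w := by
      calc b' * b * xg D F r 1 * (b' * b)⁻¹
          = (nw D F w)⁻¹ * b⁻¹ * (b * nw D F w * b' * (b * xg D F r 1 * b⁻¹)) * b'⁻¹ := by group
        _ = (nw D F w)⁻¹ * b⁻¹ * (b * xg D F r 1 * b⁻¹ * (b * nw D F w * b')) * b'⁻¹ := by rw [hc]
        _ = _ := by group
    obtain ⟨a, ha, hcg⟩ := borel_conj_congr hU (mul_mem hb' hb) hr hrk.1 (one_ne_zero (α := F))
    obtain ⟨c, -, hc'⟩ := nw_inv_conj hU hw hr (one_ne_zero (α := F))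
    rw [he, hc'] at hcg
    exact (root_eq_of_congr hU hr (hG.actW_lt hwr hr) hrk.1 hrk.2 ha hcg).1
  congr 1
  refine congrArg Subgroup.closure (Set.ext fun g => ?_)
  constructor
  · rintro ⟨r, u, hr, hrk, rfl⟩
    exact ⟨r, u, hr, (keepPos_eq hU hwr hfix hr).1 hrk, rfl⟩
  · rintro ⟨r, u, hr, hrk, rfl⟩
    exact ⟨r, u, hr, (keepPos_eq hU hwr hfix hr).2 hrk, rfl⟩

theorem posJ_empty_bot : XS D F (posJ D (∅ : Set ℕ)) = ⊥ :=
  le_bot_iff.1 (XS_le fun r _ hr h =>
    absurd h.2 (not_mem_subJ_empty hU.toCommGood.toGood hr))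

theorem posJ_univ_eq {K : Set ℕ} (hK : ∀ k < D.rank, k ∈ K) :
    XS D F (posJ D K) = D.posUnipotent F := by
  rw [hU.toCommGood.toGood.posUnipotent_eq]
  exact le_antisymm (XS_mono fun r hr => hr.1) (XS_mono fun r hr => mem_posJ_univ hK hr)

/-- The root element of a root outside `K` has no conjugate in the Levi subgroup of `K`. -/
theorem mem_subJ_of_conj (hs : chkSupp D = true) {K : Set ℕ} {b : GL D.Idx F}
    (hb : b ∈ D.borelSubgroup F) {r : ℕ} (hr : r < D.nroots) (hp : 1 ≤ ht D r)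
    (h : b * xg D F r 1 * b⁻¹ ∈ XS D F (posJ D K)) : r ∈ subJ D K := by
  have hC := hU.toCommGood
  have hG := hC.toGood
  by_contra hrK
  have hbn : b ∈ Subgroup.normalizer (D.unipotentRadical F K : Set (GL D.Idx F)) :=
    hC.parabolic_le_normalizer hs K (by rw [hG.parabolic_gen]; exact Subgroup.mem_sup_left hb)
  have h1 : b * xg D F r 1 * b⁻¹ ∈ D.unipotentRadical F K := by
    refine (Subgroup.mem_normalizer_iff.1 hbn _).1 ?_
    rw [hG.unipotentRadical_eq hs]
    exact xg_mem_XS hr (show r ∈ radJ D K from ⟨hp, hrK⟩) 1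
  have h2 : b * xg D F r 1 * b⁻¹ ∈ D.leviSubgroup F K := by
    rw [hG.leviSubgroup_eq hs]
    exact Subgroup.mem_sup_right (XS_mono (fun s hs' => hs'.2) h)
  have h3 : b * xg D F r 1 * b⁻¹ = 1 :=
    Subgroup.mem_bot.1 (hG.radical_inf_levi (F := F) hs K ▸ Subgroup.mem_inf.2 ⟨h1, h2⟩)
  exact one_ne_zero (α := F) (hG.xg_injective hr
    ((conj_eq_one_iff.1 h3).trans (hG.xg_zero r).symm))

end ugood

end Cfsg.Agent.ChevDefect57
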